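import Cfsg.Agent.S1472
import Cfsg.Agent.OddLocal.TypeData
import Cfsg.Agent.OddLocal.TypeClass
import Cfsg.Agent.OddChar.TypeOne.Gap.Structure
import Cfsg.Agent.OddChar.TypeOne.Gap.AllFrobenius
import Cfsg.Prelude.Def_OddOrderLocal

/-!
Reduction of the odd order theorem to the final configuration (Peterfalvi 14.7, Appendix C):
`FinalStatement` is the statement of S1544; granting it, groups of odd order are solvable.
-/

set_option autoImplicit false

namespace Cfsg.Agent.OddChar.Final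

open Cfsg Subgroup
open Cfsg.Agent.OddLocal

universe u

variable {G : Type u} [Group G] [Finite G] {M K U : Subgroup G}

/-- Type P data with prescribed `W₁ = K`. -/
theorem exists_typePWith (hG : IsMinSimpleOddOrder G) (hM : IsCoatom M)
    (hKU : IsSigmaDecomposition M K U) (hK1 : K ≠ ⊥) :
    ∃ V : Subgroup G, IsTypePWith M K V (PType.star M K) := by
  by_cases hn : Group.IsNilpotent (sigmaCore M)
  · have hab : IsMulCommutative U := (KappaDecomp.data_of hG hM hKU hK1).hUc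
    exact ⟨U, Types.typePWith_of hG hM hKU hK1 (by
      letI : CommGroup U := { (inferInstance : Group U) with mul_comm := hab.is_comm.comm }
      exact CommGroup.isNilpotent) hKU.normal (Types.compl_of_nilpotent hG hM hKU hK1 hn)⟩
  · obtain ⟨V, hVn, hKV, -, hV⟩ := Types.exists_compl_nonnilpotent hG hM hKU hn
    exact ⟨V, Types.typePWith_of hG hM hKU hK1 hVn hKV hV⟩

/-- A type P pair with the smaller cyclic factor first. -/
theorem exists_pair (hG : IsMinSimpleOddOrder G) :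
    ∃ S T W₁ W₂ U V : Subgroup G, IsCoatom S ∧ IsCoatom T ∧ IsTypePWith S W₁ U W₂ ∧
      IsTypePWith T W₂ V W₁ ∧ S ⊓ T = W₁ ⊔ W₂ ∧ (IsOfTypeII S ∨ IsOfTypeII T) ∧
      (IsOfTypeII S ∨ IsOfTypeIII S ∨ IsOfTypeIV S ∨ IsOfTypeV S) ∧
      (IsOfTypeII T ∨ IsOfTypeIII T ∨ IsOfTypeIV T ∨ IsOfTypeV T) ∧
      Nat.card W₁ < Nat.card W₂ := by
  obtain ⟨M, hM, hκ⟩ := TypeOne.Gap.exists_kappa hG
  obtain ⟨K, U, hKU⟩ := Fcore.exists_decomp hG hM
  have hK1 : K ≠ ⊥ := fun e =>
    Set.not_nonempty_empty (TypeOne.Gap.kappa_eq_empty hKU e ▸ hκ)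
  obtain ⟨H, h⟩ := PType.exists_pair_of_decomposition hG hM hKU hK1
  have := h.cyclic
  obtain ⟨V, hKV⟩ := KappaDecomp.exists_decomposition hG h.hH h.hKs
    (Subgroup.isCyclic_of_le (le_sup_right : PType.star M K ≤ K ⊔ PType.star M K))
  have hS1 : PType.star M K ≠ ⊥ := h.star_ne_bot hG
  obtain ⟨UM, hMP⟩ := exists_typePWith hG hM hKU hK1
  obtain ⟨UH, hHP⟩ := exists_typePWith hG h.hH hKV hS1
  rw [h.hKeq] at hHP
  have hII : IsOfTypeII M ∨ IsOfTypeII H := by
    rcases h.p2 with ⟨hP, -⟩ | ⟨hP, -⟩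
    · exact Or.inl (Types.typeII hG hM hKU hK1 ((PType.notP1_iff hG hM hKU).mp hP))
    · exact Or.inr (Types.typeII hG h.hH hKV hS1 ((PType.notP1_iff hG h.hH hKV).mp hP))
  have hne : Nat.card K ≠ Nat.card (PType.star M K) := fun e => by
    have := PType.coprime_star h.hK
    rw [← e, Nat.coprime_self] at this
    exact hK1 (card_eq_one.mp this)
  rcases hne.lt_or_gt with hlt | hlt
  · exact ⟨M, H, K, PType.star M K, UM, UH, hM, h.hH, hMP, hHP, h.inter, hII,
      TypeOne.Gap.typeP_cases hG hM hKU hK1, TypeOne.Gap.typeP_cases hG h.hH hKV hS1, hlt⟩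
  · exact ⟨H, M, PType.star M K, K, UH, UM, h.hH, hM, hHP, hMP,
      by rw [inf_comm, h.inter, sup_comm], hII.symm,
      TypeOne.Gap.typeP_cases hG h.hH hKV hS1, TypeOne.Gap.typeP_cases hG hM hKU hK1, hlt⟩

/-- The statement of S1544. -/
def FinalStatement : Prop :=
  ∀ {G : Type u} [Group G] [Finite G], IsMinSimpleOddOrder G →
    ∀ (S T W₁ W₂ U V : Subgroup G), IsCoatom S → IsCoatom T → IsTypePWith S W₁ U W₂ →
      IsTypePWith T W₂ V W₁ → S ⊓ T = W₁ ⊔ W₂ → IsOfTypeII S ∨ IsOfTypeII T →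
      (IsOfTypeII S ∨ IsOfTypeIII S ∨ IsOfTypeIV S ∨ IsOfTypeV S) →
      (IsOfTypeII T ∨ IsOfTypeIII T ∨ IsOfTypeIV T ∨ IsOfTypeV T) →
      Nat.card W₁ < Nat.card W₂ →
      (Nat.card W₁).Prime ∧ (Nat.card W₂).Prime ∧
      IsElementaryAbelian (Nat.card W₂) (fittingHallOf S) ∧
      Nat.card (fittingHallOf S) = Nat.card W₂ ^ Nat.card W₁ ∧ IsCyclic U ∧
      Nat.card U * (Nat.card W₂ - 1) = Nat.card W₂ ^ Nat.card W₁ - 1 ∧
      (∀ u ∈ U, u ≠ 1 → ∀ x ∈ fittingHallOf S, u * x = x * u → x = 1) ∧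
      Nat.Coprime ((Nat.card W₂ ^ Nat.card W₁ - 1) / (Nat.card W₂ - 1)) (Nat.card W₂ - 1) ∧
      U ≤ normalizer (fittingHallOf S : Set G) ∧
      (Nat.card (fittingHallOf T)).Coprime (Nat.card W₂) ∧
      IsElementaryAbelian (Nat.card W₁) (fittingHallOf T) ∧
      W₂ ≤ normalizer (fittingHallOf T : Set G) ∧
      ∃ y ∈ fittingHallOf T, W₂.map (MulAut.conj y).toMonoidHom ≤ normalizer (U : Set G) ∧
        ∃ (F : Type) (_ : Field F) (_ : Fintype F) (f : G → F) (ψ : G → F),
          Fintype.card F = Nat.card W₂ ^ Nat.card W₁ ∧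
          Set.BijOn f (fittingHallOf S : Set G) Set.univ ∧
          (∀ x ∈ fittingHallOf S, ∀ x' ∈ fittingHallOf S, f (x * x') = f x + f x') ∧
          (∀ u ∈ U, ψ u ≠ 0 ∧ ∀ x ∈ fittingHallOf S, f (u * x * u⁻¹) = ψ u * f x) ∧
          (∀ u ∈ U, ∀ u' ∈ U, ψ (u * u') = ψ u * ψ u') ∧ Set.InjOn ψ (U : Set G) ∧
          (∀ x ∈ fittingHallOf S, x ∈ W₂ ↔ f x ^ Nat.card W₂ = f x)

/-- The final contradiction. -/
theorem false_of_final (h : FinalStatement.{u}) (hG : IsMinSimpleOddOrder G) : False := by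
  obtain ⟨S, T, W₁, W₂, U, V, hS, hT, hSP, hTP, hST, hII, hS25, hT25, hqp⟩ := exists_pair hG
  obtain ⟨hq, hp, -, -, -, hUc, -, hA, hUP, hQp, hQ, hW₂Q, y, hy, hyU, F, iF, iFt, f, ψ, hF, hf,
    hfadd, hψ, hψmul, hψinj, hW₂⟩ := h hG S T W₁ W₂ U V hS hT hSP hTP hST hII hS25 hT25 hqp
  have := Fact.mk hp
  have := Fact.mk hq
  have := @S1472.result G _ _ (Nat.card W₂) (Nat.card W₁) _ _ hA F iF iFt hF (fittingHallOf S) U
    (fittingHallOf T) f ψ hf hfadd hUP hψ hψmul hψinj hUc hQ.1 hQp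
    (fun x hx hfx => hW₂Q ((hW₂ x hx).mpr hfx)) y hy
    (fun x hx hfx => hyU ⟨x, (hW₂ x hx).mpr hfx, rfl⟩)
  omega

/-- Groups of odd order are solvable, granted the final configuration. -/
theorem isSolvable_of_final (h : FinalStatement.{u}) :
    ∀ (n : ℕ) {G : Type u} [Group G] [Finite G], Nat.card G = n → Odd n → Group.IsSolvable G := by
  intro n
  induction n using Nat.strong_induction_on with
  | _ n ih =>
    intro G _ _ hn hodd
    subst hn
    have hproper : ∀ H : Subgroup G, H ≠ ⊤ → Group.IsSolvable H := fun H hH =>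
      ih _ (lt_of_le_of_ne (Nat.le_of_dvd Nat.card_pos (card_subgroup_dvd_card H))
        fun e => hH (eq_top_of_card_eq H e)) rfl (hodd.of_dvd_nat (card_subgroup_dvd_card H))
    by_contra hns
    have hnt : Nontrivial G := by
      by_contra h1
      rw [not_nontrivial_iff_subsingleton] at h1
      exact hns inferInstance
    have hsimple : IsSimpleGroup G := ⟨fun N hN => by
      by_contra h1
      push Not at h1
      have := hproper N h1.2
      have hlt : Nat.card (G ⧸ N) < Nat.card G := by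
        have h2 := card_eq_card_quotient_mul_card_subgroup N
        have h3 : 1 < Nat.card N := (one_lt_card_iff_ne_bot N).mpr h1.1
        have h4 : 0 < Nat.card (G ⧸ N) := Nat.card_pos
        nlinarith
      have := ih _ hlt (G := G ⧸ N) rfl (hodd.of_dvd_nat (card_quotient_dvd_card N))
      exact hns (Group.isSolvable_of_ker_le_range N.subtype (QuotientGroup.mk' N)
        (by rw [QuotientGroup.ker_mk', range_subtype]))⟩
    refine false_of_final h (G := G) ⟨hodd, hsimple, fun hc => hns ?_, hproper⟩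
    exact Group.isSolvable_of_comm fun a b => hc.is_comm.comm a b

end Cfsg.Agent.OddChar.Final
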